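import Groth.Agent.FlatMor.K26.StabDefs
import Mathlib.RingTheory.Valuation.Integers
import Mathlib.RingTheory.IntegralClosure.IntegrallyClosed
import Mathlib.FieldTheory.IsAlgClosed.Basic
import Mathlib.Algebra.CharP.Lemmas
import Mathlib.Data.Nat.Choose.Sum
import Mathlib.Data.Nat.Choose.Dvd

/-!
# Preliminaries for the Kummer step

* `pow_add`, `pow_sub`: `p`-th powers are additive modulo `p` in the valuation ring.
* `NP.add_small`, `NP.mul_pow`, `NP.add_pow`: stability of the elements whose residue is not a `p`-th power.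
* `le_one_of_eq`: roots of monic equations with coefficients in the valuation ring.
* `one_add_pow`: the binomial formula with the divided binomial coefficients.
-/

set_option autoImplicit false
universe u

namespace K128.Kum

open K26.Stab

variable {R : Type u} [CommRing R] {N : Type u} [Field N] [Algebra R N] {Γ₀ : Type u}
  [LinearOrderedCommGroupWithZero Γ₀] {v : Valuation N Γ₀}

/-- `p`-th powers are additive modulo `p` in the valuation ring. -/
theorem pow_add {p : ℕ} (hp : p.Prime) {a b : N} (ha : v a ≤ 1) (hb : v b ≤ 1) :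
    ∃ r : N, v r ≤ 1 ∧ (a + b) ^ p = a ^ p + b ^ p + p * r := by
  obtain ⟨r, hr⟩ := exists_add_pow_prime_eq hp (⟨a, ha⟩ : v.integer) (⟨b, hb⟩ : v.integer)
  refine ⟨a * b * r, ?_, ?_⟩
  · rw [map_mul, map_mul]
    exact mul_le_one' (mul_le_one' ha hb) r.2
  have h1 := congrArg (fun x : v.integer => (x : N)) hr
  have h2 : (a + b) ^ p = a ^ p + b ^ p + p * a * b * r := by simpa using h1
  rw [h2]
  ring

theorem pow_sub {p : ℕ} (hp : p.Prime) {a b : N} (ha : v a ≤ 1) (hb : v b ≤ 1) :
    ∃ r : N, v r ≤ 1 ∧ (a - b) ^ p = a ^ p - b ^ p + p * r := by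
  obtain ⟨r, hr, h⟩ := pow_add (v := v) hp (Valuation.map_sub_le v ha hb) hb
  refine ⟨-r, by rwa [Valuation.map_neg], ?_⟩
  rw [sub_add_cancel] at h
  linear_combination -h

variable {p : ℕ} (hp : p.Prime) (hvp : v (p : N) < 1)

include hvp in
theorem p_mul_lt {r : N} (hr : v r ≤ 1) : v ((p : N) * r) < 1 := by
  rw [map_mul]
  exact mul_lt_one_of_lt_of_le hvp hr

variable {F : Subfield N}

theorem NP.add_small {g x : N} (hg : NP v p F g) (hx : x ∈ F) (hvx : v x < 1) : NP v p F (g + x) where
  mem := F.add_mem hg.mem hx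
  le := (Valuation.map_add _ _ _).trans (max_le hg.le hvx.le)
  np h hh hvh hcon := by
    refine hg.np h hh hvh ?_
    have : g - h ^ p = (g + x - h ^ p) - x := by ring
    rw [this]
    exact Valuation.map_sub_lt _ hcon hvx

theorem NP.mul_pow {g c : N} (hg : NP v p F g) (hc : c ∈ F) (hvc : v c = 1) : NP v p F (c ^ p * g) where
  mem := F.mul_mem (F.pow_mem hc p) hg.mem
  le := by rw [map_mul, map_pow, hvc, one_pow, one_mul]; exact hg.le
  np h hh hvh hcon := by
    have hc0 : c ≠ 0 := by
      rintro rfl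
      rw [map_zero] at hvc
      exact zero_ne_one hvc
    refine hg.np (h / c) (F.div_mem hh hc) (by rw [map_div₀, hvc, div_one]; exact hvh) ?_
    have h1 : c ^ p * g - h ^ p = c ^ p * (g - (h / c) ^ p) := by
      rw [div_pow, mul_sub, mul_div_cancel₀ _ (pow_ne_zero p hc0)]
    rwa [h1, map_mul, map_pow, hvc, one_pow, one_mul] at hcon

include hp hvp in
theorem NP.add_pow {g h₀ : N} (hg : NP v p F g) (hh₀ : h₀ ∈ F) (hvh₀ : v h₀ ≤ 1) : NP v p F (g + h₀ ^ p) where
  mem := F.add_mem hg.mem (F.pow_mem hh₀ p)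
  le := (Valuation.map_add _ _ _).trans (max_le hg.le (by rw [map_pow]; exact pow_le_one₀ zero_le hvh₀))
  np h hh hvh hcon := by
    obtain ⟨r, hr, h1⟩ := pow_sub (v := v) hp hvh hvh₀
    refine hg.np (h - h₀) (F.sub_mem hh hh₀) (Valuation.map_sub_le v hvh hvh₀) ?_
    have h2 : g - (h - h₀) ^ p = (g + h₀ ^ p - h ^ p) - p * r := by rw [h1]; ring
    rw [h2]
    exact Valuation.map_sub_lt _ hcon (p_mul_lt hvp hr)

include hp in
/-- Roots of monic equations with coefficients in the valuation ring are in the valuation ring. -/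
theorem le_one_of_eq {z g : N} (a : ℕ → N) (ha : ∀ i, v (a i) ≤ 1) (hg : v g ≤ 1)
    (h : z ^ p + ∑ i ∈ Finset.range p, a i * z ^ i = g) : v z ≤ 1 := by
  by_contra hz
  push Not at hz
  have h1 : v (z ^ p) ≤ v z ^ (p - 1) := by
    have h2 : z ^ p = g - ∑ i ∈ Finset.range p, a i * z ^ i := by rw [← h]; ring
    have h3 : (1 : Γ₀) ≤ v z ^ (p - 1) := one_le_pow₀ hz.le
    rw [h2]
    refine Valuation.map_sub_le v (hg.trans h3) (Valuation.map_sum_le _ fun i hi => ?_)
    rw [Finset.mem_range] at hi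
    rw [map_mul, map_pow]
    calc v (a i) * v z ^ i ≤ 1 * v z ^ (p - 1) := mul_le_mul' (ha i) (pow_le_pow_right₀ hz.le (by omega))
      _ = v z ^ (p - 1) := one_mul _
  rw [map_pow] at h1
  have h2 : v z ^ (p - 1) < v z ^ p := pow_lt_pow_right₀ hz (by have := hp.pos; omega)
  exact absurd h1 (not_le.2 h2)

/-- The divided binomial coefficients. -/
def m (p i : ℕ) : ℕ := p.choose i / p

include hp in
theorem m_zero : m p 0 = 0 := by
  rw [m, Nat.choose_zero_right]
  exact Nat.div_eq_of_lt hp.one_lt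

include hp in
theorem m_one : m p 1 = 1 := by
  rw [m, Nat.choose_one_right]
  exact Nat.div_self hp.pos

include hp in
theorem p_mul_m {i : ℕ} (h0 : i ≠ 0) (hi : i < p) : p * m p i = p.choose i :=
  Nat.mul_div_cancel' (hp.dvd_choose_self h0 hi)

include hp in
/-- The binomial formula. -/
theorem one_add_pow (x : N) :
    (1 + x) ^ p = 1 + x ^ p + ∑ i ∈ Finset.range p, ((p : N) * (m p i : N)) * x ^ i := by
  obtain ⟨q, rfl⟩ : ∃ q, p = q + 1 := ⟨p - 1, by have := hp.pos; omega⟩
  rw [add_comm (1 : N) x, _root_.add_pow, Finset.sum_range_succ, Finset.sum_range_succ', Finset.sum_range_succ']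
  simp only [one_pow, mul_one, Nat.choose_self, Nat.cast_one, pow_zero, Nat.choose_zero_right]
  rw [m_zero hp]
  have h1 : ∑ i ∈ Finset.range q, x ^ (i + 1) * ((q + 1).choose (i + 1) : N) =
      ∑ i ∈ Finset.range q, (((q + 1 : ℕ) : N) * (m (q + 1) (i + 1) : N)) * x ^ (i + 1) := by
    refine Finset.sum_congr rfl fun i hi => ?_
    rw [Finset.mem_range] at hi
    rw [← Nat.cast_mul, p_mul_m hp (by omega) (by omega), mul_comm]
  rw [h1]
  push_cast
  ring

theorem lt_one_of_le_of_lt {a b : Γ₀} (ha : a ≤ 1) (hb : b < 1) : a * b < 1 := by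
  rw [mul_comm]
  exact mul_lt_one_of_lt_of_le hb ha

/-- The valuation of a natural number. -/
theorem cast_le (n : ℕ) : v (n : N) ≤ 1 := by
  have : (n : N) ∈ v.integer := natCast_mem v.integer n
  exact this

end K128.Kum
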