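import Groth.Agent.FlatMor.K128.KumThree
import Mathlib.Algebra.GCDMonoid.IntegrallyClosed
import Mathlib.RingTheory.Bezout

/-!
# The Kummer step (mixed characteristic)

`exists_stdGen`: let `R` be a valuation ring of characteristic zero with separably closed fraction field, `p` a
prime which is not a unit in `R`, `F` a `p`-finite subfield for which the normal form lemma holds, `σ` an
automorphism fixing `F` and acting trivially on the residue field, and `y` with `y ^ p ∈ F`, `σ y ≠ y`. Then `y`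
generates the same field over `F` as a standard generator.
-/

set_option autoImplicit false
universe u

namespace K128.Kum

open K26.Stab Finset

variable {R : Type u} [CommRing R] [IsDomain R] {N : Type u} [Field N] [Algebra R N] {Γ₀ : Type u}
  [LinearOrderedCommGroupWithZero Γ₀] {v : Valuation N Γ₀}

/-- Roots in a valuation ring of characteristic zero with separably closed fraction field. -/
theorem exists_root [ValuationRing R] [IsSepClosed (FractionRing R)] [CharZero R] (n : ℕ) (c : R) (hn : n ≠ 0) :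
    ∃ d : R, d ^ n = c := by
  have : CharZero (FractionRing R) := charZero_of_injective_algebraMap (IsFractionRing.injective R (FractionRing R))
  have : IsAlgClosed (FractionRing R) := inferInstance
  obtain ⟨x, hx⟩ := IsAlgClosed.exists_pow_nat_eq (algebraMap R (FractionRing R) c) (Nat.pos_of_ne_zero hn)
  have hint : IsIntegral R x := IsIntegral.of_pow (Nat.pos_of_ne_zero hn) (by rw [hx]; exact isIntegral_algebraMap)
  obtain ⟨d, rfl⟩ := IsIntegrallyClosed.isIntegral_iff.1 hint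
  refine ⟨d, IsFractionRing.injective R (FractionRing R) ?_⟩
  rw [map_pow, hx]

omit [IsDomain R] in
/-- The family `θ` without `θ j₀` detects the elements whose residue is not a `p`-th power. -/
theorem np_of_indep {p : ℕ} (hp : p.Prime) (hvp : v (p : N) < 1) {F : Subfield N} {J : Type} [Fintype J]
    [DecidableEq J] {θ : J → N} {j₀ : J} (hθ : Fam R v p F θ j₀) (u : J → N) (huF : ∀ j, u j ∈ F)
    (hvu : ∀ j, v (u j) ≤ 1) (j₁ : J) (hj₁ : j₁ ≠ j₀) (hu1 : v (u j₁) = 1) :
    NP v p F (∑ j ∈ univ.erase j₀, θ j * u j ^ p) where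
  mem := F.sum_mem fun j _ => F.mul_mem (hθ.mem j) (F.pow_mem (huF j) p)
  le := Valuation.map_sum_le _ fun j _ => by
    rw [map_mul, map_pow]
    exact mul_le_one' (hθ.le j) (pow_le_one₀ zero_le (hvu j))
  np h hh hvh hcon := by
    obtain ⟨r, hr, h1⟩ := pow_add (v := v) hp (a := h) (b := -h) hvh (by rwa [Valuation.map_neg])
    rw [add_neg_cancel, zero_pow hp.ne_zero] at h1
    have h2 := hθ.indep (fun j => if j = j₀ then -h else u j) (fun j => by
      by_cases hj : j = j₀
      · simp only [hj, if_true]; exact F.neg_mem hh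
      · simp only [hj, if_false]; exact huF j) (fun j => by
      by_cases hj : j = j₀
      · simp only [hj, if_true, Valuation.map_neg]; exact hvh
      · simp only [hj, if_false]; exact hvu j) (by
      rw [← add_sum_erase _ _ (mem_univ j₀)]
      simp only [if_true, hθ.one, one_mul]
      have h3 : ∑ x ∈ univ.erase j₀, θ x * (if x = j₀ then -h else u x) ^ p =
          ∑ x ∈ univ.erase j₀, θ x * u x ^ p := by
        refine sum_congr rfl fun x hx => ?_
        rw [mem_erase] at hx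
        rw [if_neg hx.1]
      rw [h3]
      have h4 : (-h) ^ p + ∑ x ∈ univ.erase j₀, θ x * u x ^ p =
          (∑ x ∈ univ.erase j₀, θ x * u x ^ p - h ^ p) - p * r := by linear_combination -h1
      rw [h4]
      exact Valuation.map_sub_lt _ hcon (p_mul_lt hvp hr)) j₁
    simp only [hj₁, if_false] at h2
    exact h2.ne hu1

theorem goal_one [ValuationRing R] [CharZero R] (hB : Base R v) {p : ℕ} (hp : p.Prime) (hpm : ¬ IsUnit (p : R))
    {F : Subfield N} (hF : Good R v p F) (hRF : ∀ r : R, algebraMap R N r ∈ F)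
    (hroot : ∀ (n : ℕ) (c : R), n ≠ 0 → ∃ d : R, d ^ n = c)
    (hN : LemN R v p F) {σ : N ≃+* N} (hσF : ∀ x ∈ F, σ x = x)
    (hσ : ∀ x, v x ≤ 1 → v (σ x - x) < 1) {y : N} (hy : y ^ p ∈ F) (hvy : v y = 1) (hσy : σ y ≠ y) :
    Goal R v p F y := by
  classical
  have hvp : v (p : N) < 1 := by
    have := hB.lt (p : R) hpm
    rwa [map_natCast] at this
  have hp0 : (p : R) ≠ 0 := Nat.cast_ne_zero.2 hp.ne_zero
  obtain ⟨J, _, θ, j₀, hθ⟩ := hF
  obtain ⟨D, -, hSD, hθD, hDF, hdec⟩ := hθ.dec (p : R) hp0 dvd_rfl {y ^ p} (fun s hs => by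
    rw [mem_singleton] at hs
    subst hs
    exact ⟨hy, by rw [map_pow, hvy, one_pow]⟩)
  obtain ⟨h, hhD, t, htD, hu⟩ := hdec (y ^ p) (hSD _ (mem_singleton_self _))
  rw [← add_sum_erase _ _ (mem_univ j₀), hθ.one, one_mul, map_natCast] at hu
  have hvu : v (y ^ p) = 1 := by rw [map_pow, hvy, one_pow]
  obtain ⟨htF, hvt⟩ := hDF t htD
  have hhF : ∀ j, h j ∈ F := fun j => (hDF _ (hhD j)).1
  have hvh : ∀ j, v (h j) ≤ 1 := fun j => (hDF _ (hhD j)).2
  -- dividing by `h j₀`
  have hdiv : ∀ (b : N), b ∈ F → v b ≤ 1 → y ^ p = h j₀ ^ p + p * b → Goal R v p F y := by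
    intro b hb hvb hyb
    have hvh₀ : v (h j₀) = 1 := by
      have h1 : v (h j₀ ^ p) = 1 := by
        have h2 : h j₀ ^ p = y ^ p - p * b := by rw [hyb]; ring
        rw [h2, Valuation.map_sub_eq_of_lt_left v (by rw [hvu]; exact p_mul_lt hvp hvb), hvu]
      rw [map_pow] at h1
      exact (pow_eq_one_iff_of_nonneg zero_le hp.ne_zero).1 h1
    have hh0 : h j₀ ≠ 0 := by
      intro h0
      rw [h0, map_zero] at hvh₀
      exact zero_ne_one hvh₀
    refine Goal.of_mul (c := (h j₀)⁻¹) (F.inv_mem (hhF j₀)) (inv_ne_zero hh0) ?_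
    refine goal_two hB.toBase₀ hp hpm hRF hroot hN hσF hσ (b := b / h j₀ ^ p) (F.div_mem hb (F.pow_mem (hhF j₀) p))
      (by rw [map_div₀, map_pow, hvh₀, one_pow, div_one]; exact hvb) ?_ ?_
    · rw [mul_pow, hyb, inv_pow]
      field_simp
    · intro hcon
      rw [map_mul, hσF _ (F.inv_mem (hhF j₀))] at hcon
      exact hσy (mul_right_cancel₀ (inv_ne_zero hh0) hcon)
  by_cases hzero : ∀ j ∈ univ.erase j₀, h j = 0
  · -- no other component
    refine hdiv t htF hvt ?_
    have h1 : ∑ x ∈ univ.erase j₀, θ x * h x ^ p = 0 := by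
      refine sum_eq_zero fun x hx => ?_
      rw [hzero x hx, zero_pow hp.ne_zero, mul_zero]
    rw [h1, add_zero] at hu
    exact hu
  push Not at hzero
  obtain ⟨j₂, hj₂, hj₂0⟩ := hzero
  -- the largest component
  obtain ⟨j₁, hj₁, hmax⟩ := exists_max_image (univ.erase j₀) (fun j => v (h j)) ⟨j₂, hj₂⟩
  obtain ⟨s, hs⟩ := hB.val (h j₁) (hvh j₁)
  set S := algebraMap R N s with hS
  have hvS0 : v S ≠ 0 := by
    rw [hs]
    intro h0
    have h1 := hmax j₂ hj₂
    rw [h0] at h1
    exact hj₂0 ((Valuation.zero_iff v).1 (le_antisymm h1 zero_le))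
  have hS0 : S ≠ 0 := by
    intro h0
    rw [h0, map_zero] at hvS0
    exact hvS0 rfl
  have hSF : S ∈ F := hRF s
  set u : J → N := fun j => if j = j₀ then 0 else h j / S with hudef
  have huF : ∀ j, u j ∈ F := by
    intro j
    by_cases hj : j = j₀
    · simp only [hudef, hj, if_true]; exact F.zero_mem
    · simp only [hudef, hj, if_false]; exact F.div_mem (hhF j) hSF
  have hvuj : ∀ j, v (u j) ≤ 1 := by
    intro j
    by_cases hj : j = j₀
    · simp only [hudef, hj, if_true, map_zero]; exact zero_le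
    · simp only [hudef, hj, if_false, map_div₀]
      rw [div_le_one₀ (zero_lt_iff.2 hvS0), hs]
      exact hmax j (mem_erase.2 ⟨hj, mem_univ j⟩)
  have hj₁' : j₁ ≠ j₀ := (mem_erase.1 hj₁).1
  have hvu1 : v (u j₁) = 1 := by
    simp only [hudef, hj₁', if_false, map_div₀]
    rw [hs, div_self (by rwa [← hs])]
  have hG := np_of_indep hp hvp hθ u huF hvuj j₁ hj₁' hvu1
  set G := ∑ j ∈ univ.erase j₀, θ j * u j ^ p with hGdef
  have hsum : ∑ x ∈ univ.erase j₀, θ x * h x ^ p = S ^ p * G := by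
    rw [hGdef, mul_sum]
    refine sum_congr rfl fun x hx => ?_
    simp only [hudef, (mem_erase.1 hx).1, if_false, div_pow]
    field_simp
  rw [hsum] at hu
  by_cases hsu : IsUnit s
  · -- the residue of `y ^ p` is not a `p`-th power
    have hvS : v S = 1 := hB.toBase₀.unit hsu
    have hNP : NP v p F (y ^ p) := by
      have h1 : y ^ p = (S ^ p * G + h j₀ ^ p) + p * t := by rw [hu]; ring
      rw [h1]
      exact NP.add_small (NP.add_pow hp hvp (NP.mul_pow hG hSF hvS) (hhF j₀) (hvh j₀))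
        (F.mul_mem (natCast_mem F p) htF) (p_mul_lt hvp hvt)
    refine ⟨y, ⟨hvy.le, fun _ => 0, fun _ => not_isUnit_zero, y ^ p, hNP, ?_⟩, mem_self, mem_self⟩
    simp
  have hvS : v S < 1 := hB.lt s hsu
  rcases ValuationRing.dvd_total (p : R) (s ^ p) with ⟨ε, hε⟩ | ⟨ε, hε⟩
  · -- `s ^ p = p ε`
    have hSp : S ^ p = p * algebraMap R N ε := by rw [hS, ← map_pow, hε, map_mul, map_natCast]
    refine hdiv (algebraMap R N ε * G + t) (F.add_mem (F.mul_mem (hRF ε) hG.mem) htF)
      ((Valuation.map_add _ _ _).trans (max_le (by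
        rw [map_mul]; exact mul_le_one' (hB.le ε) hG.le) hvt)) ?_
    rw [hu, hSp]
    ring
  -- `p = s ^ p ε`
  have hpS : (p : N) = S ^ p * algebraMap R N ε := by
    rw [hS, ← map_pow, ← map_mul, ← hε, map_natCast]
  by_cases hεu : IsUnit ε
  · obtain ⟨ε', rfl⟩ := hεu
    have hSp : S ^ p = p * algebraMap R N (↑ε'⁻¹ : R) := by
      rw [hpS, mul_assoc, ← map_mul, Units.mul_inv, map_one, mul_one]
    refine hdiv (algebraMap R N (↑ε'⁻¹ : R) * G + t) (F.add_mem (F.mul_mem (hRF _) hG.mem) htF)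
      ((Valuation.map_add _ _ _).trans (max_le (by
        rw [map_mul]; exact mul_le_one' (hB.le _) hG.le) hvt)) ?_
    rw [hu, hSp]
    ring
  -- the generator `(y / h j₀ - 1) / s`
  set E := algebraMap R N ε with hE
  have hvE : v E < 1 := hB.lt ε hεu
  have hvh₀ : v (h j₀) = 1 := by
    have h1 : v (h j₀ ^ p) = 1 := by
      have h2 : h j₀ ^ p = y ^ p - (S ^ p * G + p * t) := by rw [hu]; ring
      have h3 : v (S ^ p * G + p * t) < 1 := by
        refine Valuation.map_add_lt _ ?_ (p_mul_lt hvp hvt)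
        rw [map_mul, map_pow]
        exact mul_lt_one_of_lt_of_le (pow_lt_one₀ zero_le hvS hp.ne_zero) hG.le
      rw [h2, Valuation.map_sub_eq_of_lt_left v (by rw [hvu]; exact h3), hvu]
    rw [map_pow] at h1
    exact (pow_eq_one_iff_of_nonneg zero_le hp.ne_zero).1 h1
  have hh0 : h j₀ ≠ 0 := by
    intro h0
    rw [h0, map_zero] at hvh₀
    exact zero_ne_one hvh₀
  set z := (y / h j₀ - 1) / S with hz
  have hyz : y / h j₀ = 1 + S * z := by
    rw [hz, mul_div_cancel₀ _ hS0]
    ring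
  have hSp0 : S ^ p ≠ 0 := pow_ne_zero _ hS0
  set g := ((h j₀)⁻¹) ^ p * (G + E * t) with hg
  have hNP : NP v p F g := by
    refine NP.mul_pow (NP.add_small hG (F.mul_mem (hRF ε) htF) ?_) (F.inv_mem (hhF j₀))
      (by rw [map_inv₀, hvh₀, inv_one])
    rw [map_mul]
    exact mul_lt_one_of_lt_of_le hvE hvt
  have heq : z ^ p + ∑ i ∈ range p, algebraMap R N ((m p i : R) * s ^ i * ε) * z ^ i = g := by
    apply mul_left_cancel₀ hSp0
    have h1 := one_add_pow hp (S * z)
    rw [← hyz, div_pow, hu] at h1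
    have h2 : ∑ i ∈ range p, ((p : N) * (m p i : N)) * (S * z) ^ i =
        S ^ p * ∑ i ∈ range p, algebraMap R N ((m p i : R) * s ^ i * ε) * z ^ i := by
      rw [mul_sum]
      refine sum_congr rfl fun i _ => ?_
      rw [map_mul, map_mul, map_pow, map_natCast, ← hS, ← hE, hpS, mul_pow]
      ring
    rw [h2, mul_pow] at h1
    rw [hg, mul_add]
    have h3 : (h j₀ ^ p + (S ^ p * G + p * t)) / h j₀ ^ p = 1 + S ^ p * ((h j₀)⁻¹ ^ p * (G + E * t)) := by
      rw [hpS, inv_pow]
      field_simp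
    have h4 : (h j₀ ^ p + S ^ p * G + p * t) / h j₀ ^ p = (h j₀ ^ p + (S ^ p * G + p * t)) / h j₀ ^ p := by
      rw [add_assoc]
    linear_combination -h1 + h3 + h4
  refine ⟨z, ⟨?_, _, ?_, g, hNP, heq⟩, ?_, ?_⟩
  · exact le_one_of_eq hp _ (fun i => hB.le _) hNP.le heq
  · intro i hi
    exact hεu (isUnit_of_mul_isUnit_right hi)
  · have h2 : y = h j₀ * (1 + S * z) := by rw [← hyz, mul_div_cancel₀ _ hh0]
    rw [h2]
    exact mul_mem (mem_left (hhF j₀)) (add_mem (one_mem _) (mul_mem (mem_left hSF) mem_self))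
  · rw [hz]
    exact div_mem (sub_mem (div_mem mem_self (mem_left (hhF j₀))) (one_mem _)) (mem_left hSF)

/-- The Kummer step, from the normal form lemma for `F`. -/
theorem exists_stdGen [ValuationRing R] [IsSepClosed (FractionRing R)] [CharZero R] (hB : Base R v) {p : ℕ}
    (hp : p.Prime) (hpm : ¬ IsUnit (p : R)) {F : Subfield N} (hF : Good R v p F) (hN : LemN R v p F)
    {σ : N ≃+* N} (hσF : ∀ x ∈ F, σ x = x)
    (hσ : ∀ x, v x ≤ 1 → v (σ x - x) < 1) {y : N} (hy : y ^ p ∈ F) (hσy : σ y ≠ y) :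
    ∃ z, StdGen R v p F z ∧ y ∈ Subfield.closure ((F : Set N) ∪ {z}) ∧ z ∈ Subfield.closure ((F : Set N) ∪ {y}) := by
  have hp0 : (p : R) ≠ 0 := Nat.cast_ne_zero.2 hp.ne_zero
  have hRF : ∀ r : R, algebraMap R N r ∈ F := by
    intro r
    obtain ⟨J, _, θ, j₀, hθ⟩ := hF
    obtain ⟨D, -, -, -, hDF, -⟩ := hθ.dec (p : R) hp0 dvd_rfl ∅ (by simp)
    exact (hDF _ (D.algebraMap_mem r)).1
  have hroot : ∀ (n : ℕ) (c : R), n ≠ 0 → ∃ d : R, d ^ n = c := exists_root
  have hy0 : y ≠ 0 := by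
    rintro rfl
    exact hσy (map_zero σ)
  have hvy0 : v y ≠ 0 := (Valuation.ne_zero_iff _).2 hy0
  obtain ⟨c, hcF, hc0, hvc⟩ : ∃ c ∈ F, c ≠ 0 ∧ v (y * c) = 1 := by
    rcases le_total (v y) 1 with hle | hle
    · obtain ⟨r, hr⟩ := hB.val y hle
      have hr0 : algebraMap R N r ≠ 0 := by
        intro h0
        rw [h0, map_zero] at hr
        exact hvy0 hr.symm
      refine ⟨(algebraMap R N r)⁻¹, F.inv_mem (hRF r), inv_ne_zero hr0, ?_⟩
      rw [map_mul, map_inv₀, hr, mul_inv_cancel₀ hvy0]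
    · obtain ⟨r, hr⟩ := hB.val y⁻¹ (by rw [map_inv₀]; exact inv_le_one_of_one_le₀ hle)
      have hr0 : algebraMap R N r ≠ 0 := by
        intro h0
        rw [h0, map_zero, map_inv₀] at hr
        exact inv_ne_zero hvy0 hr.symm
      refine ⟨algebraMap R N r, hRF r, hr0, ?_⟩
      rw [map_mul, hr, map_inv₀, mul_inv_cancel₀ hvy0]
  refine Goal.of_mul (R := R) (v := v) (p := p) hcF hc0 ?_
  refine goal_one hB hp hpm hF hRF hroot hN hσF hσ ?_ hvc ?_
  · rw [mul_pow]
    exact F.mul_mem hy (F.pow_mem hcF p)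
  · intro hcon
    rw [map_mul, hσF _ hcF] at hcon
    exact hσy (mul_right_cancel₀ hc0 hcon)

end K128.Kum
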