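import Groth.Agent.FlatMor.K128.KumTwo

/-!
# The Kummer step for a unit `1 + p b`
-/

set_option autoImplicit false
universe u

namespace K128.Kum

open K26.Stab Finset

variable {R : Type u} [CommRing R] {N : Type u} [Field N] [Algebra R N] {Γ₀ : Type u}
  [LinearOrderedCommGroupWithZero Γ₀] {v : Valuation N Γ₀}

theorem goal_two [CharZero R] (hB : Base₀ R v) {p : ℕ} (hp : p.Prime) (hpm : ¬ IsUnit (p : R))
    {F : Subfield N} (hRF : ∀ r : R, algebraMap R N r ∈ F) (hroot : ∀ (n : ℕ) (c : R), n ≠ 0 → ∃ d : R, d ^ n = c)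
    (hN : LemN R v p F) {σ : N ≃+* N} (hσF : ∀ x ∈ F, σ x = x)
    (hσ : ∀ x, v x ≤ 1 → v (σ x - x) < 1) {y b : N} (hb : b ∈ F) (hvb : v b ≤ 1)
    (hy : y ^ p = 1 + p * b) (hσy : σ y ≠ y) : Goal R v p F y := by
  have h1p : 1 < p := hp.one_lt
  -- the elements `π` and `γ`
  obtain ⟨π, hπ⟩ := hroot (p - 1) (-(p : R)) (by omega)
  obtain ⟨γ, hγ⟩ := hroot (p * p) π (Nat.mul_ne_zero hp.ne_zero hp.ne_zero)
  have hπu : ¬ IsUnit π := fun h => hpm (by
    have := h.pow (p - 1)
    rw [hπ] at this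
    exact (IsUnit.neg_iff _).1 this)
  have hγu : ¬ IsUnit γ := fun h => hπu (hγ ▸ h.pow _)
  have hp0 : (p : R) ≠ 0 := Nat.cast_ne_zero.2 hp.ne_zero
  have hπ0 : π ≠ 0 := by
    rintro rfl
    rw [zero_pow (by omega)] at hπ
    exact hp0 (neg_eq_zero.1 hπ.symm)
  have hγ0 : γ ≠ 0 := by
    rintro rfl
    rw [zero_pow (Nat.mul_ne_zero hp.ne_zero hp.ne_zero)] at hγ
    exact hπ0 hγ.symm
  have hdvd : γ ^ (p * p) ∣ (p : R) := by
    rw [hγ, ← dvd_neg, ← hπ]
    exact dvd_pow_self π (by omega)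
  set P := algebraMap R N π with hPdef
  set G := algebraMap R N γ with hGdef
  have hP : P ^ (p - 1) = -(p : N) := by
    rw [hPdef, ← map_pow, hπ, map_neg, map_natCast]
  have hG : G ^ (p * p) = P := by rw [hGdef, ← map_pow, hγ]
  have hP0 : P ≠ 0 := fun h => hπ0 (hB.inj (h.trans (map_zero _).symm))
  have hG0 : G ≠ 0 := fun h => hγ0 (hB.inj (h.trans (map_zero _).symm))
  have hvP : v P < 1 := hB.lt π hπu
  have hvG : v G < 1 := hB.lt γ hγu
  have hPF : P ∈ F := hRF π
  have hGF : G ∈ F := hRF γ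
  have hPp : P ^ p = -(p : N) * P := by
    rw [← hP, ← pow_succ]
    congr 1
    omega
  have hp0N : (p : N) ≠ 0 := by
    intro h
    rw [h, neg_zero] at hP
    exact hP0 (pow_eq_zero_iff (by omega) |>.1 hP)
  have hPpow : P ^ p ≠ 0 := pow_ne_zero _ hP0
  -- the normal form
  obtain ⟨e, heF, hve, hcase⟩ := hN γ hγ0 hdvd (-b) (F.neg_mem hb) (by rwa [Valuation.map_neg])
  rw [← hGdef] at hcase
  set η := e / G ^ p with hη
  have hGp0 : G ^ p ≠ 0 := pow_ne_zero _ hG0
  have hηF : η ∈ F := F.div_mem heF (F.pow_mem hGF p)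
  have hPη : P * η = G ^ (p * (p - 1)) * e := by
    rw [hη, ← hG]
    have : G ^ (p * p) = G ^ (p * (p - 1)) * G ^ p := by
      rw [← _root_.pow_add]
      congr 1
      rw [← Nat.mul_succ]
      congr 1
      omega
    rw [this]
    field_simp
  have hvPη : v (P * η) < 1 := by
    rw [hPη, map_mul, map_pow]
    refine mul_lt_one_of_lt_of_le (pow_lt_one₀ zero_le hvG ?_) hve
    exact Nat.mul_ne_zero hp.ne_zero (by omega)
  have hvPη2 : 3 ≤ p → v (P * η ^ 2) < 1 := by
    intro h3
    have h4 : P * η ^ 2 = G ^ (p * (p - 2)) * e ^ 2 := by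
      rw [hη, ← hG]
      have : G ^ (p * p) = G ^ (p * (p - 2)) * (G ^ p) ^ 2 := by
        rw [← pow_mul, ← _root_.pow_add, ← Nat.mul_add]
        congr 2
        omega
      rw [this]
      field_simp
    rw [h4, map_mul, map_pow, map_pow]
    refine mul_lt_one_of_lt_of_le (pow_lt_one₀ zero_le hvG ?_) (pow_le_one₀ zero_le hve)
    exact Nat.mul_ne_zero hp.ne_zero (by omega)
  have hvq : v (q p P η) < 1 := v_q_lt hp hvPη hvPη2
  have hqF : q p P η ∈ F := F.sum_mem fun i _ => F.mul_mem (F.mul_mem (natCast_mem F _) (F.pow_mem hPF _))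
    (F.pow_mem hηF _)
  -- the new generator
  set d := 1 + P * η with hd
  have hvd : v d = 1 := by
    rw [hd, Valuation.map_add_eq_of_lt_left v (by rwa [map_one]), map_one]
  have hd0 : d ≠ 0 := by
    intro h
    rw [h, map_zero] at hvd
    exact zero_ne_one hvd
  have hdF : d ∈ F := F.add_mem F.one_mem (F.mul_mem hPF hηF)
  have hdp : d ^ p = 1 + P ^ p * Q p P η := one_add_mul_pow hp hP η
  set w := (y / d - 1) / P with hw
  have hyw : y / d = 1 + P * w := by
    rw [hw, mul_div_cancel₀ _ hP0]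
    ring
  have hPp' : P ^ p * Q p P w = (p * b - P ^ p * Q p P η) / d ^ p := by
    have h1 := one_add_mul_pow hp hP w
    rw [← hyw, div_pow, hy, eq_comm, ← eq_sub_iff_add_eq'] at h1
    rw [h1, eq_div_iff (pow_ne_zero p hd0), sub_mul, div_mul_cancel₀ _ (pow_ne_zero p hd0), hdp]
    ring
  -- the constant `a - (η ^ p - η)`
  set c := -b / P - η ^ p + η with hc
  have hQw : Q p P w = (c + q p P η) / d ^ p := by
    apply mul_left_cancel₀ hPpow
    rw [hPp', mul_div_assoc']
    congr 1
    rw [Q_eq hp, hc, hPp]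
    field_simp
    ring
  have hPc : P * c = -b - e ^ p + G ^ (p * (p - 1)) * e := by
    have h1 : P * η ^ p = e ^ p := by
      rw [hη, div_pow, ← pow_mul, hG]
      field_simp
    rw [hc, ← hPη, ← h1]
    field_simp
  have hvy₂ : ∀ {x : N}, v x ≤ 1 → v (1 + P * x) = 1 := by
    intro x hx
    rw [Valuation.map_add_eq_of_lt_left v (by
      rw [map_one, map_mul]; exact mul_lt_one_of_lt_of_le hvP hx), map_one]
  rcases hcase with ⟨w', hw'F, hvw', h1⟩ | ⟨γ', s, hγ'u, hγ'0, hγs, g, hg, h1⟩
  · -- the first alternative is impossible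
    exfalso
    have hcw : c = w' := by
      apply mul_left_cancel₀ hP0
      rw [hPc, h1, hG]
    have hvQ : v (Q p P w) ≤ 1 := by
      rw [hQw, map_div₀, map_pow, hvd, one_pow, div_one, hcw]
      exact (Valuation.map_add _ _ _).trans (max_le hvw' hvq.le)
    have hvw : v w ≤ 1 := by
      refine le_one_of_eq hp (g := Q p P w) (fun i => - ((m p i : N) * P ^ (i - 1))) (fun i => ?_) hvQ ?_
      · rw [Valuation.map_neg, map_mul, map_pow]
        exact mul_le_one' (cast_le _) (pow_le_one₀ zero_le hvP.le)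
      · rw [Q, sub_eq_add_neg, ← sum_neg_distrib]
        congr 1
        exact sum_congr rfl fun i _ => by ring
    have hy0 : y ≠ 0 := by
      rintro rfl
      exact hσy (map_zero σ)
    have hσd : σ d = d := hσF d hdF
    have hσP : σ P = P := hσF P hPF
    set l := (σ (y / d) / (y / d) - 1) / P with hl
    have hyd0 : y / d ≠ 0 := div_ne_zero hy0 hd0
    have h2 : 1 + P * l = σ (y / d) / (y / d) := by
      rw [hl, mul_div_cancel₀ _ hP0]
      ring
    have hydF : (y / d) ^ p ∈ F := by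
      rw [div_pow, hy]
      exact F.div_mem (F.add_mem F.one_mem (F.mul_mem (natCast_mem F p) hb)) (F.pow_mem hdF p)
    have h3 : Q p P l = 0 := by
      have h4 := one_add_mul_pow hp hP l
      rw [h2, div_pow, ← map_pow, hσF _ hydF, div_self (pow_ne_zero p hyd0)] at h4
      have h5 : P ^ p * Q p P l = 0 := by linear_combination -h4
      exact (mul_eq_zero.1 h5).resolve_left hPpow
    have hl0 : l ≠ 0 := by
      intro h
      rw [h, mul_zero, add_zero, eq_div_iff hyd0, one_mul, map_div₀, hσd] at h2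
      exact hσy (by
        have := congrArg (· * d) h2
        simpa [div_mul_cancel₀ _ hd0] using this.symm)
    have hvl : v l = 1 := v_root hp hvP hl0 h3
    have h4 : σ w - w = l * (y / d) := by
      have h5 : σ w = (σ (y / d) - 1) / P := by
        rw [hw, map_div₀, map_sub, map_one, hσP]
      rw [h5, hw, hl]
      field_simp
      ring
    have h5 := hσ w hvw
    rw [h4, map_mul, hvl, one_mul, hyw, hvy₂ hvw] at h5
    exact lt_irrefl _ h5
  · -- the second alternative
    set C := algebraMap R N γ' with hC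
    set S := algebraMap R N s with hS
    have hC0 : C ≠ 0 := fun h => hγ'0 (hB.inj (h.trans (map_zero _).symm))
    have hvC : v C < 1 := hB.lt γ' hγ'u
    have hCF : C ∈ F := hRF γ'
    have hCS : C * S = G ^ p := by rw [hC, hS, ← map_mul, hγs, map_pow]
    have hPCS : P = C ^ p * S ^ p := by rw [← mul_pow, hCS, ← pow_mul, hG]
    have hS0 : S ^ p ≠ 0 := by
      intro h
      rw [h, mul_zero] at hPCS
      exact hP0 hPCS
    have hCc : C ^ p * c = g := by
      apply mul_left_cancel₀ hS0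
      rw [← h1, ← hPc, hPCS]
      ring
    set g' := C ^ p * Q p P w with hg'
    have hg'eq : g' = (d⁻¹) ^ p * (g + C ^ p * q p P η) := by
      rw [hg', hQw, ← hCc, inv_pow]
      field_simp
    have hNP : NP v p F g' := by
      rw [hg'eq]
      refine NP.mul_pow (NP.add_small hg (F.mul_mem (F.pow_mem hCF p) hqF) ?_) (F.inv_mem hdF) ?_
      · rw [map_mul, map_pow]
        exact mul_lt_one_of_lt_of_le (pow_lt_one₀ zero_le hvC hp.ne_zero) hvq.le
      · rw [map_inv₀, hvd, inv_one]
    have heq : (C * w) ^ p + ∑ i ∈ range p,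
        algebraMap R N (-((m p i : R) * π ^ (i - 1) * (γ' * γ' ^ (p - 1 - i)))) * (C * w) ^ i = g' := by
      rw [hg', Q, mul_sub, mul_sum, sub_eq_add_neg, ← sum_neg_distrib, ← mul_pow]
      congr 1
      refine sum_congr rfl fun i hi => ?_
      rw [mem_range] at hi
      have h2 : C ^ p = C * C ^ (p - 1 - i) * C ^ i := by
        rw [← pow_succ', ← _root_.pow_add]
        congr 1
        omega
      rw [map_neg, map_mul, map_mul, map_mul, map_pow, map_pow, map_natCast, ← hPdef, ← hC, h2, mul_pow]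
      ring
    refine ⟨C * w, ⟨?_, _, ?_, g', hNP, heq⟩, ?_, ?_⟩
    · refine le_one_of_eq hp _ (fun i => ?_) hNP.le heq
      exact hB.le _
    · intro i h
      rw [IsUnit.neg_iff] at h
      exact hγ'u (isUnit_of_mul_isUnit_left (isUnit_of_mul_isUnit_right h))
    · have h2 : y = d * (1 + P * (C⁻¹ * (C * w))) := by
        rw [inv_mul_cancel_left₀ hC0, ← hyw, mul_div_cancel₀ _ hd0]
      rw [h2]
      exact mul_mem (mem_left hdF) (add_mem (one_mem _) (mul_mem (mem_left hPF)
        (mul_mem (mem_left (F.inv_mem hCF)) mem_self)))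
    · rw [hw]
      exact mul_mem (mem_left hCF) (div_mem (sub_mem (div_mem mem_self (mem_left hdF)) (one_mem _))
        (mem_left hPF))

end K128.Kum
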