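import Groth.Agent.FlatMor.K128.KumBasic

/-!
# The Kummer step: units congruent to one modulo `p`
-/

set_option autoImplicit false
universe u

namespace K128.Kum

open K26.Stab Finset

variable {R : Type u} [CommRing R] [IsDomain R] {N : Type u} [Field N] [Algebra R N] {Γ₀ : Type u}
  [LinearOrderedCommGroupWithZero Γ₀] {v : Valuation N Γ₀}

/-- The conclusion of the Kummer step. -/
def Goal (R : Type u) [CommRing R] {N : Type u} [Field N] [Algebra R N] {Γ₀ : Type u}
    [LinearOrderedCommGroupWithZero Γ₀] (v : Valuation N Γ₀) (p : ℕ) (F : Subfield N) (y : N) : Prop :=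
  ∃ z, StdGen R v p F z ∧ y ∈ Subfield.closure ((F : Set N) ∪ {z}) ∧ z ∈ Subfield.closure ((F : Set N) ∪ {y})

/-- The normal form lemma, as a hypothesis. -/
def LemN (R : Type u) [CommRing R] {N : Type u} [Field N] [Algebra R N] {Γ₀ : Type u}
    [LinearOrderedCommGroupWithZero Γ₀] (v : Valuation N Γ₀) (p : ℕ) (F : Subfield N) : Prop :=
  ∀ γ : R, γ ≠ 0 → γ ^ (p * p) ∣ (p : R) → ∀ b ∈ F, v b ≤ 1 →
    ∃ e ∈ F, v e ≤ 1 ∧
      ((∃ w ∈ F, v w ≤ 1 ∧ b - e ^ p + algebraMap R N γ ^ (p * (p - 1)) * e = algebraMap R N γ ^ (p * p) * w) ∨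
       (∃ γ' s : R, ¬ IsUnit γ' ∧ γ' ≠ 0 ∧ γ' * s = γ ^ p ∧ ∃ g, NP v p F g ∧
          b - e ^ p + algebraMap R N γ ^ (p * (p - 1)) * e = algebraMap R N s ^ p * g))

section closure

variable {F : Subfield N} {y z : N}

theorem mem_left {c : N} (hc : c ∈ F) : c ∈ Subfield.closure ((F : Set N) ∪ {y}) :=
  Subfield.subset_closure (Or.inl hc)

theorem mem_self : y ∈ Subfield.closure ((F : Set N) ∪ {y}) :=
  Subfield.subset_closure (Or.inr rfl)

theorem closure_le (h : z ∈ Subfield.closure ((F : Set N) ∪ {y})) :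
    Subfield.closure ((F : Set N) ∪ {z}) ≤ Subfield.closure ((F : Set N) ∪ {y}) := by
  rw [Subfield.closure_le]
  rintro x (hx | rfl)
  · exact mem_left hx
  · exact h

end closure

omit [IsDomain R] in
theorem Goal.of_mul {p : ℕ} {F : Subfield N} {c y : N} (hc : c ∈ F) (hc0 : c ≠ 0) (h : Goal R v p F (y * c)) :
    Goal R v p F y := by
  obtain ⟨z, hz, h1, h2⟩ := h
  refine ⟨z, hz, ?_, ?_⟩
  · have h3 := mul_mem h1 (mem_left (y := z) (F.inv_mem hc))
    rwa [mul_inv_cancel_right₀ hc0] at h3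
  · exact closure_le (mul_mem mem_self (mem_left hc)) h2

variable {p : ℕ} (hp : p.Prime)

/-- The polynomial `Q`. -/
noncomputable def Q (p : ℕ) (P T : N) : N := T ^ p - ∑ i ∈ range p, (m p i : N) * P ^ (i - 1) * T ^ i

include hp in
theorem one_add_mul_pow {P : N} (hP : P ^ (p - 1) = -(p : N)) (T : N) :
    (1 + P * T) ^ p = 1 + P ^ p * Q p P T := by
  rw [one_add_pow hp, Q, mul_sub, mul_sum, mul_pow]
  have h1 : ∑ i ∈ range p, ((p : N) * (m p i : N)) * (P * T) ^ i =
      - ∑ i ∈ range p, P ^ p * ((m p i : N) * P ^ (i - 1) * T ^ i) := by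
    rw [← sum_neg_distrib]
    refine sum_congr rfl fun i hi => ?_
    rcases Nat.eq_zero_or_pos i with rfl | h0
    · rw [m_zero hp]
      simp
    · have h2 : (p : N) * P ^ i = - (P ^ p * P ^ (i - 1)) := by
        have h3 : (p : N) = - P ^ (p - 1) := by rw [hP, neg_neg]
        rw [h3, neg_mul, ← _root_.pow_add, ← _root_.pow_add]
        congr 2
        have := hp.pos
        omega
      rw [mul_pow]
      linear_combination (m p i : N) * T ^ i * h2
  rw [h1]
  ring

/-- The higher terms of `Q`. -/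
noncomputable def q (p : ℕ) (P T : N) : N := ∑ i ∈ (range p).erase 1, (m p i : N) * P ^ (i - 1) * T ^ i

include hp in
theorem Q_eq (P T : N) : Q p P T = T ^ p - T - q p P T := by
  have h1 : 1 ∈ range p := mem_range.2 hp.one_lt
  rw [Q, q, ← add_sum_erase _ _ h1, m_one hp]
  simp
  ring

include hp in
theorem v_q_lt {P T : N} (h1 : v (P * T) < 1) (h2 : 3 ≤ p → v (P * T ^ 2) < 1) : v (q p P T) < 1 := by
  refine Valuation.map_sum_lt _ one_ne_zero fun i hi => ?_
  rw [mem_erase, mem_range] at hi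
  rcases Nat.eq_zero_or_pos i with rfl | h0
  · rw [m_zero hp]
    simp
  · obtain ⟨j, rfl⟩ : ∃ j, i = j + 2 := ⟨i - 2, by omega⟩
    have h3 : (m p (j + 2) : N) * P ^ (j + 2 - 1) * T ^ (j + 2) =
        (m p (j + 2) : N) * ((P * T) ^ j * (P * T ^ 2)) := by
      have : j + 2 - 1 = j + 1 := rfl
      rw [this]
      ring
    rw [h3, map_mul, map_mul, map_pow]
    refine lt_one_of_le_of_lt (cast_le _) (lt_one_of_le_of_lt (pow_le_one₀ zero_le h1.le) (h2 (by omega)))

include hp in
/-- The nonzero roots of `Q` have value one. -/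
theorem v_root {P T : N} (hP : v P < 1) (hT : T ≠ 0) (h : Q p P T = 0) : v T = 1 := by
  have h1 : v T ≤ 1 := by
    refine le_one_of_eq hp (g := 0) (fun i => - ((m p i : N) * P ^ (i - 1))) (fun i => ?_) (by simp) ?_
    · rw [Valuation.map_neg, map_mul, map_pow]
      exact mul_le_one' (cast_le _) (pow_le_one₀ zero_le hP.le)
    · rw [← h, Q, sub_eq_add_neg, ← sum_neg_distrib]
      congr 1
      exact sum_congr rfl fun i _ => by ring
  refine le_antisymm h1 ?_
  by_contra hlt
  push Not at hlt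
  have hT0 : v T ≠ 0 := (Valuation.ne_zero_iff _).2 hT
  have hpos : 0 < v T := zero_lt_iff.2 hT0
  rw [Q_eq hp] at h
  have h2 : T = T ^ p - q p P T := by linear_combination -h
  have h3 : v (T ^ p) < v T := by
    rw [map_pow]
    calc v T ^ p < v T ^ 1 := pow_lt_pow_right_of_lt_one₀ hpos hlt hp.one_lt
      _ = v T := pow_one _
  have h4 : v (q p P T) < v T := by
    refine Valuation.map_sum_lt _ hT0 fun i hi => ?_
    rw [mem_erase, mem_range] at hi
    rcases Nat.eq_zero_or_pos i with rfl | h0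
    · rw [m_zero hp]
      simpa using hpos
    · obtain ⟨j, rfl⟩ : ∃ j, i = j + 2 := ⟨i - 2, by omega⟩
      have h3 : (m p (j + 2) : N) * P ^ (j + 2 - 1) * T ^ (j + 2) =
          ((m p (j + 2) : N) * (P ^ j * T ^ (j + 1) * P)) * T := by
        have : j + 2 - 1 = j + 1 := rfl
        rw [this]
        ring
      rw [h3, map_mul]
      have h5 : v ((m p (j + 2) : N) * (P ^ j * T ^ (j + 1) * P)) < 1 := by
        rw [map_mul, map_mul, map_mul, map_pow, map_pow]
        exact lt_one_of_le_of_lt (cast_le _) (lt_one_of_le_of_lt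
          (mul_le_one' (pow_le_one₀ zero_le hP.le) (pow_le_one₀ zero_le h1)) hP)
      calc v ((m p (j + 2) : N) * (P ^ j * T ^ (j + 1) * P)) * v T < 1 * v T :=
            mul_lt_mul_of_pos_right h5 hpos
        _ = v T := one_mul _
  have h5 : v T < v T := by
    conv_lhs => rw [h2]
    exact Valuation.map_sub_lt _ h3 h4
  exact lt_irrefl _ h5

end K128.Kum
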